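import Mathlib

/-!
Smoothness of the affine plane curve `a(t) + b(t) w = 0` and resultants.
-/

set_option autoImplicit false
set_option backward.isDefEq.respectTransparency false

universe u

open Polynomial

noncomputable section

namespace Groth.Agent.ChartSm

variable {k : Type u} [Field k]

/-- `a(t) + b(t) w`. -/
def lin (a b : k[X]) : MvPolynomial (Fin 2) k :=
  aeval (MvPolynomial.X 0 : MvPolynomial (Fin 2) k) a + aeval (MvPolynomial.X 0 : MvPolynomial (Fin 2) k) b * MvPolynomial.X 1

theorem smooth_lin_of_isCoprime {a b : k[X]} (h : IsCoprime a b) :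
    Algebra.Smooth k (MvPolynomial (Fin 2) k ⧸ Ideal.span ({lin a b} : Set (MvPolynomial (Fin 2) k))) := by
  obtain ⟨u, v, huv⟩ := h
  let F := lin a b
  let J := Ideal.span ({F} : Set (MvPolynomial (Fin 2) k))
  let U := aeval (MvPolynomial.X 0 : MvPolynomial (Fin 2) k) u
  let V := aeval (MvPolynomial.X 0 : MvPolynomial (Fin 2) k) v
  let φ : MvPolynomial (Fin 2) k →ₐ[k] MvPolynomial (Fin 2) k :=
    MvPolynomial.aeval ![MvPolynomial.X 0, MvPolynomial.X 1 - (V - U * MvPolynomial.X 1) * F]
  have hA : ∀ p : k[X], φ (aeval (MvPolynomial.X 0 : MvPolynomial (Fin 2) k) p) =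
      aeval (MvPolynomial.X 0 : MvPolynomial (Fin 2) k) p := fun p => by
    rw [← aeval_algHom_apply, show φ (MvPolynomial.X 0) = MvPolynomial.X 0 by simp [φ]]
  have huv' : U * aeval (MvPolynomial.X 0 : MvPolynomial (Fin 2) k) a +
      V * aeval (MvPolynomial.X 0 : MvPolynomial (Fin 2) k) b = 1 := by
    rw [← map_mul, ← map_mul, ← map_add, huv, map_one]
  have hφF : φ F = U * F * F := by
    have hF : F = aeval (MvPolynomial.X 0 : MvPolynomial (Fin 2) k) a +
        aeval (MvPolynomial.X 0 : MvPolynomial (Fin 2) k) b * MvPolynomial.X 1 := rfl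
    conv_lhs => rw [hF, map_add, map_mul, hA, hA,
      show φ (MvPolynomial.X 1) = MvPolynomial.X 1 - (V - U * MvPolynomial.X 1) * F by simp [φ]]
    rw [hF]
    linear_combination (-(aeval (MvPolynomial.X 0 : MvPolynomial (Fin 2) k) a +
        aeval (MvPolynomial.X 0 : MvPolynomial (Fin 2) k) b * MvPolynomial.X 1)) * huv'
  let π : MvPolynomial (Fin 2) k →ₐ[k] MvPolynomial (Fin 2) k ⧸ J := Ideal.Quotient.mkₐ k J
  have hker : RingHom.ker π.toRingHom = J := Ideal.mk_ker
  let ψ : MvPolynomial (Fin 2) k →ₐ[k] MvPolynomial (Fin 2) k ⧸ RingHom.ker π.toRingHom ^ 2 :=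
    (Ideal.Quotient.mkₐ k _).comp φ
  have hψ : ∀ x ∈ J, ψ x = 0 := fun x hx => by
    obtain ⟨c, rfl⟩ := Ideal.mem_span_singleton'.1 hx
    rw [map_mul]
    suffices ψ F = 0 by rw [this, mul_zero]
    show Ideal.Quotient.mk _ (φ F) = 0
    rw [Ideal.Quotient.eq_zero_iff_mem, hker, hφF, mul_assoc, pow_two]
    exact Ideal.mul_mem_left _ _ (Ideal.mul_mem_mul (Ideal.mem_span_singleton_self F) (Ideal.mem_span_singleton_self F))
  have hsmooth : Algebra.FormallySmooth k (MvPolynomial (Fin 2) k ⧸ J) := by
    refine Algebra.FormallySmooth.of_split π (Ideal.Quotient.liftₐ J ψ hψ) (Ideal.Quotient.algHom_ext k ?_)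
    refine MvPolynomial.algHom_ext fun i => ?_
    show π (φ (MvPolynomial.X i)) = π (MvPolynomial.X i)
    fin_cases i
    · simp [φ]
    · show π (φ (MvPolynomial.X 1)) = π (MvPolynomial.X 1)
      rw [show φ (MvPolynomial.X 1) = MvPolynomial.X 1 - (V - U * MvPolynomial.X 1) * F by simp [φ], map_sub,
        map_mul, show π F = 0 from Ideal.Quotient.eq_zero_iff_mem.2 (Ideal.mem_span_singleton_self F),
        mul_zero, sub_zero]
  exact { formallySmooth := hsmooth
          finitePresentation := Algebra.FinitePresentation.quotient ⟨{F}, by simp [J, F]⟩ }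

theorem taylor (F : MvPolynomial (Fin 2) k) (c : Fin 2 → MvPolynomial (Fin 2) k) (g : MvPolynomial (Fin 2) k) :
    MvPolynomial.aeval (fun i => MvPolynomial.X i + c i * F) g -
      (g + F * ∑ i, c i * MvPolynomial.pderiv i g) ∈ Ideal.span {F ^ 2} := by
  induction g using MvPolynomial.induction_on with
  | C a => simp [MvPolynomial.algebraMap_eq]
  | add p q hp hq =>
    convert Ideal.add_mem _ hp hq using 1
    simp only [map_add, mul_add, Finset.sum_add_distrib]
    ring
  | mul_X p j hp =>
    obtain ⟨e, he⟩ := Ideal.mem_span_singleton'.1 hp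
    refine Ideal.mem_span_singleton'.2 ⟨e * (MvPolynomial.X j + c j * F) +
      (∑ i, c i * MvPolynomial.pderiv i p) * c j, ?_⟩
    have hs : (∑ i, c i * MvPolynomial.pderiv i (p * MvPolynomial.X j)) =
        MvPolynomial.X j * (∑ i, c i * MvPolynomial.pderiv i p) + c j * p := by
      rw [Finset.mul_sum]
      simp only [Derivation.leibniz, smul_eq_mul, mul_add, Finset.sum_add_distrib]
      rw [Finset.sum_eq_single j (fun i _ hne => by simp [MvPolynomial.pderiv_X_of_ne (Ne.symm hne)])
        (fun h => absurd (Finset.mem_univ j) h)]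
      simp [mul_left_comm, add_comm]
    rw [map_mul, MvPolynomial.aeval_X, hs]
    linear_combination (MvPolynomial.X j + c j * F) * he

theorem not_smooth_of_singular {F : MvPolynomial (Fin 2) k} (hF : F ≠ 0) {K : Type u} [Field K] [Algebra k K]
    (P : Fin 2 → K) (h0 : MvPolynomial.aeval P F = 0) (h1 : ∀ i, MvPolynomial.aeval P (MvPolynomial.pderiv i F) = 0) :
    ¬ Algebra.Smooth k (MvPolynomial (Fin 2) k ⧸ Ideal.span ({F} : Set (MvPolynomial (Fin 2) k))) := by
  intro hsm
  let J := Ideal.span ({F} : Set (MvPolynomial (Fin 2) k))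
  haveI : Algebra.FormallySmooth k (MvPolynomial (Fin 2) k ⧸ J) := hsm.formallySmooth
  let π : MvPolynomial (Fin 2) k →ₐ[k] MvPolynomial (Fin 2) k ⧸ J := Ideal.Quotient.mkₐ k J
  obtain ⟨g, hg⟩ := (Algebra.FormallySmooth.iff_split_surjection π Ideal.Quotient.mk_surjective).1 inferInstance
  choose z hz using fun i => Ideal.Quotient.mk_surjective (g (π (MvPolynomial.X i)))
  have hzmem : ∀ i, z i - MvPolynomial.X i ∈ J := fun i => by
    have := AlgHom.congr_fun hg (π (MvPolynomial.X i))
    rw [AlgHom.comp_apply, ← hz] at this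
    exact (Ideal.Quotient.eq).1 this
  choose c hc using fun i => Ideal.mem_span_singleton'.1 (hzmem i)
  have hzero : MvPolynomial.aeval (fun i => MvPolynomial.X i + c i * F) F ∈ Ideal.span {F ^ 2} := by
    have h2 : ∀ x, Ideal.Quotient.mk (RingHom.ker π.toRingHom ^ 2)
        (MvPolynomial.aeval (fun i => MvPolynomial.X i + c i * F) x) = g (π x) := fun x => by
      have : ((Ideal.Quotient.mkₐ k (RingHom.ker π.toRingHom ^ 2)).comp
          (MvPolynomial.aeval fun i => MvPolynomial.X i + c i * F)) = g.comp π :=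
        MvPolynomial.algHom_ext fun i => by
          rw [AlgHom.comp_apply, AlgHom.comp_apply, MvPolynomial.aeval_X, ← hz]
          show Ideal.Quotient.mk _ _ = _
          rw [hc]
          ring_nf
      exact AlgHom.congr_fun this x
    have h3 := h2 F
    rw [show π F = 0 from Ideal.Quotient.eq_zero_iff_mem.2 (Ideal.mem_span_singleton_self F), map_zero,
      Ideal.Quotient.eq_zero_iff_mem, show RingHom.ker π.toRingHom = J from Ideal.mk_ker,
      Ideal.span_singleton_pow] at h3
    exact h3
  obtain ⟨e, he⟩ := Ideal.mem_span_singleton'.1 ((Submodule.sub_mem_iff_right _ hzero).1 (taylor F c F))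
  have h4 : (1 : MvPolynomial (Fin 2) k) + ∑ i, c i * MvPolynomial.pderiv i F = e * F :=
    mul_left_cancel₀ hF (by linear_combination -he)
  have h5 := congrArg (MvPolynomial.aeval P) h4
  simp [h0, h1] at h5

theorem lin_ne_zero {a b : k[X]} (h : a ≠ 0 ∨ b ≠ 0) : lin a b ≠ 0 := by
  intro h0
  have := congrArg (MvPolynomial.aeval ![(C X : (k[X])[X]), X]) h0
  have key : ∀ p : k[X], MvPolynomial.aeval ![(C X : (k[X])[X]), X] (aeval (MvPolynomial.X 0 : MvPolynomial (Fin 2) k) p) = C p := fun p => by
    rw [← aeval_algHom_apply, MvPolynomial.aeval_X]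
    simp only [Matrix.cons_val_zero]
    rw [aeval_def, show (algebraMap k (k[X])[X]) = (C : k[X] →+* (k[X])[X]).comp C by
      ext c; simp [Polynomial.algebraMap_apply, Polynomial.algebraMap_eq]]
    rw [← hom_eval₂, eval₂_C_X]
  simp only [lin, map_add, map_mul, key, MvPolynomial.aeval_X, Matrix.cons_val_one, map_zero] at this
  have h1 := congrArg (fun p => Polynomial.coeff p 0) this
  have h2 := congrArg (fun p => Polynomial.coeff p 1) this
  simp at h1 h2
  tauto

theorem smooth_pair_iff {a b : k[X]} (hne : a ≠ 0 ∨ b ≠ 0) :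
    (Algebra.Smooth k (MvPolynomial (Fin 2) k ⧸ Ideal.span ({lin a b} : Set (MvPolynomial (Fin 2) k))) ∧
      Algebra.Smooth k (MvPolynomial (Fin 2) k ⧸ Ideal.span ({lin b a} : Set (MvPolynomial (Fin 2) k)))) ↔
      IsCoprime a b := by
  refine ⟨fun ⟨hab, hba⟩ => ?_, fun h => ⟨smooth_lin_of_isCoprime h, smooth_lin_of_isCoprime h.symm⟩⟩
  rw [isCoprime_iff_aeval_ne_zero_of_isAlgClosed k (AlgebraicClosure k)]
  intro t
  by_contra hcon
  push Not at hcon
  obtain ⟨ha, hb⟩ := hcon
  have hev : ∀ (w : AlgebraicClosure k) (p : k[X]),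
      MvPolynomial.aeval ![t, w] (aeval (MvPolynomial.X 0 : MvPolynomial (Fin 2) k) p) = aeval t p := fun w p => by
    rw [← aeval_algHom_apply, MvPolynomial.aeval_X]; rfl
  have hd : ∀ p : k[X], MvPolynomial.pderiv 0 (aeval (MvPolynomial.X 0 : MvPolynomial (Fin 2) k) p) =
      aeval (MvPolynomial.X 0 : MvPolynomial (Fin 2) k) (derivative p) := fun p => by
    induction p using Polynomial.induction_on' with
    | add p q hp hq => simp [hp, hq]
    | monomial n c =>
      simp [aeval_monomial, derivative_monomial, Derivation.leibniz_pow, MvPolynomial.algebraMap_eq]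
      ring
  have hd1 : ∀ p : k[X], MvPolynomial.pderiv 1 (aeval (MvPolynomial.X 0 : MvPolynomial (Fin 2) k) p) = 0 := fun p => by
    induction p using Polynomial.induction_on' with
    | add p q hp hq => simp [hp, hq]
    | monomial n c => simp [aeval_monomial, Derivation.leibniz_pow, MvPolynomial.algebraMap_eq]
  by_cases hb' : aeval t (derivative b) = 0
  · refine not_smooth_of_singular (lin_ne_zero hne.symm) ![t, 0] ?_ (fun i => ?_) hba
    · simp [lin, hev, hb]
    · fin_cases i <;> simp [lin, hd, hd1, hev, hb', ha]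
  · refine not_smooth_of_singular (lin_ne_zero hne) ![t, -(aeval t (derivative a)) / aeval t (derivative b)] ?_
      (fun i => ?_) hab
    · simp [lin, hev, ha, hb]
    · fin_cases i
      · simp [lin, hd, hd1, hev]
        field_simp
        ring
      · simp [lin, hd, hd1, hev, hb]

/-- The polynomial with given coefficients. -/
def poly {n : ℕ} (q : Fin (n + 1) → k) : k[X] := ∑ i, C (q i) * X ^ (i : ℕ)

/-- The polynomial with the coefficients reversed. -/
def rpoly {n : ℕ} (q : Fin (n + 1) → k) : k[X] := ∑ i, C (q i) * X ^ (n - (i : ℕ))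

theorem poly_coeff {n : ℕ} (q : Fin (n + 1) → k) (i : Fin (n + 1)) : (poly q).coeff i = q i := by
  simp [poly, finsetSum_coeff, coeff_C_mul, coeff_X_pow, Fin.val_inj]

theorem natDegree_poly {n : ℕ} (q : Fin (n + 1) → k) : (poly q).natDegree ≤ n :=
  natDegree_sum_le_of_forall_le _ _ fun i _ => (natDegree_C_mul_X_pow_le _ _).trans (Nat.lt_succ_iff.1 i.2)

theorem aeval_rpoly {n : ℕ} (q : Fin (n + 1) → k) {K : Type u} [Field K] [Algebra k K] (s : K) (hs : s ≠ 0) :
    aeval s (rpoly q) = s ^ n * aeval s⁻¹ (poly q) := by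
  simp only [rpoly, poly, map_sum, map_mul, aeval_C, map_pow, aeval_X, Finset.mul_sum]
  refine Finset.sum_congr rfl fun i _ => ?_
  rw [pow_sub₀ s hs (Nat.lt_succ_iff.1 i.2), inv_pow]
  ring

theorem aeval_zero_rpoly {n : ℕ} (q : Fin (n + 1) → k) {K : Type u} [Field K] [Algebra k K] :
    aeval (0 : K) (rpoly q) = algebraMap k K (q (Fin.last n)) := by
  simp only [rpoly, map_sum, map_mul, aeval_C, map_pow, aeval_X]
  rw [Finset.sum_eq_single (Fin.last n)]
  · simp
  · intro i _ hne
    rw [zero_pow (by have := Fin.val_lt_last hne; omega), mul_zero]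
  · exact fun h => absurd (Finset.mem_univ _) h

theorem resultant_ne_zero_iff {m n : ℕ} (hm : m ≠ 0) (q : Fin (m + 1) → k) (ξ : Fin (n + 1) → k) (hn : n ≠ 0) :
    resultant (poly q) (poly ξ) m n ≠ 0 ↔ IsCoprime (poly q) (poly ξ) ∧ IsCoprime (rpoly q) (rpoly ξ) := by
  constructor
  · intro hres
    have hcop : IsCoprime (poly q) (poly ξ) := by
      obtain ⟨p, p', -, -, h⟩ := exists_mul_add_mul_eq_C_resultant (poly q) (poly ξ) (natDegree_poly q) (natDegree_poly ξ) (Or.inl hm)
      exact ⟨C (resultant (poly q) (poly ξ) m n)⁻¹ * p, C (resultant (poly q) (poly ξ) m n)⁻¹ * p', by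
        rw [mul_assoc, mul_assoc, ← mul_add, mul_comm p, mul_comm p', h, ← map_mul, inv_mul_cancel₀ hres, map_one]⟩
    refine ⟨hcop, (isCoprime_iff_aeval_ne_zero_of_isAlgClosed k (AlgebraicClosure k) _ _).2 fun s => ?_⟩
    by_contra hcon
    push Not at hcon
    by_cases hs : s = 0
    · subst hs
      rw [aeval_zero_rpoly, aeval_zero_rpoly, map_eq_zero, map_eq_zero] at hcon
      refine hres (resultant_eq_zero_of_lt_lt _ _ _ _ ?_ ?_)
      · refine lt_of_le_of_ne (natDegree_poly q) fun h => ?_
        have h0 : (poly q).leadingCoeff = 0 := by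
          have hc := poly_coeff q (Fin.last m)
          rw [Fin.val_last, hcon.1] at hc
          rwa [leadingCoeff, h]
        exact hm (by simpa [leadingCoeff_eq_zero.1 h0] using h.symm)
      · refine lt_of_le_of_ne (natDegree_poly ξ) fun h => ?_
        have h0 : (poly ξ).leadingCoeff = 0 := by
          have hc := poly_coeff ξ (Fin.last n)
          rw [Fin.val_last, hcon.2] at hc
          rwa [leadingCoeff, h]
        exact hn (by simpa [leadingCoeff_eq_zero.1 h0] using h.symm)
    · rw [aeval_rpoly _ _ hs, aeval_rpoly _ _ hs] at hcon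
      rcases ((isCoprime_iff_aeval_ne_zero_of_isAlgClosed k (AlgebraicClosure k) _ _).1 hcop s⁻¹) with h | h
      · exact h ((mul_eq_zero.1 hcon.1).resolve_left (pow_ne_zero _ hs))
      · exact h ((mul_eq_zero.1 hcon.2).resolve_left (pow_ne_zero _ hs))
  · rintro ⟨hcop, hrev⟩
    have hres := resultant_ne_zero _ _ hcop
    rcases ((isCoprime_iff_aeval_ne_zero_of_isAlgClosed k (AlgebraicClosure k) _ _).1 hrev 0) with h | h <;>
      rw [aeval_zero_rpoly, _root_.map_ne_zero] at h
    · have h : (poly q).coeff m ≠ 0 := by simpa using (poly_coeff q (Fin.last m)).symm ▸ h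
      have hd : (poly q).natDegree = m := le_antisymm (natDegree_poly q) (le_natDegree_of_ne_zero h)
      obtain ⟨j, hj⟩ := Nat.exists_eq_add_of_le (natDegree_poly ξ)
      have := resultant_add_right_deg (poly q) (poly ξ) m (poly ξ).natDegree j le_rfl
      rw [← hj] at this
      rw [this]
      refine mul_ne_zero (pow_ne_zero _ h) ?_
      have e : resultant (poly q) (poly ξ) m (poly ξ).natDegree = resultant (poly q) (poly ξ) := by rw [hd]
      rwa [e]
    · have h : (poly ξ).coeff n ≠ 0 := by simpa using (poly_coeff ξ (Fin.last n)).symm ▸ h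
      have hd : (poly ξ).natDegree = n := le_antisymm (natDegree_poly ξ) (le_natDegree_of_ne_zero h)
      obtain ⟨j, hj⟩ := Nat.exists_eq_add_of_le (natDegree_poly q)
      have := resultant_add_left_deg (poly q) (poly ξ) (poly q).natDegree n j le_rfl
      rw [← hj] at this
      rw [this]
      refine mul_ne_zero (mul_ne_zero (pow_ne_zero _ (by norm_num)) (pow_ne_zero _ h)) ?_
      have e : resultant (poly q) (poly ξ) (poly q).natDegree n = resultant (poly q) (poly ξ) := by rw [hd]
      rwa [e]

end Groth.Agent.ChartSm
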